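import Mathlib
import Cfsg.Agent.HSType.Letters
set_option linter.all false

-- part: HSType/Affine
section
set_option autoImplicit false

/-!
Affine arithmetic over `ℤ/4` in dimension 3, for a group containing an abelian subgroup `⟨i, a, b⟩` of
exponent 4 and a subgroup `K` acting on it: an element `i^x a^y b^z κ` (`κ ∈ K`) is represented by the vector
`(x, y, z)` and the matrix of `κ`.  All checks are closed computations with natural numbers.
-/

namespace Cfsg.Agent.HSType.Affine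

/-- exponent vectors -/
structure V where
  x : ℕ
  y : ℕ
  z : ℕ

/-- matrices, given by their columns -/
structure M where
  a : V
  b : V
  c : V

/-- affine maps -/
structure Af where
  v : V
  m : M

/-- sum modulo 4 -/
def V.add (v w : V) : V :=
  ⟨Nat.mod (Nat.add v.x w.x) 4, Nat.mod (Nat.add v.y w.y) 4, Nat.mod (Nat.add v.z w.z) 4⟩

/-- the image of a vector -/
def M.app (m : M) (v : V) : V :=
  ⟨Nat.mod (Nat.add (Nat.add (Nat.mul v.x m.a.x) (Nat.mul v.y m.b.x)) (Nat.mul v.z m.c.x)) 4,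
   Nat.mod (Nat.add (Nat.add (Nat.mul v.x m.a.y) (Nat.mul v.y m.b.y)) (Nat.mul v.z m.c.y)) 4,
   Nat.mod (Nat.add (Nat.add (Nat.mul v.x m.a.z) (Nat.mul v.y m.b.z)) (Nat.mul v.z m.c.z)) 4⟩

/-- matrix product -/
def M.mul (m n : M) : M := ⟨m.app n.a, m.app n.b, m.app n.c⟩

/-- affine product -/
def Af.mul (p q : Af) : Af := ⟨V.add p.v (p.m.app q.v), M.mul p.m q.m⟩

/-- the unit matrix -/
def M.one : M := ⟨⟨1, 0, 0⟩, ⟨0, 1, 0⟩, ⟨0, 0, 1⟩⟩

/-- the identity -/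
def Af.one : Af := ⟨⟨0, 0, 0⟩, M.one⟩

/-- conjunction as a recursor -/
def band (p q : Bool) : Bool := Bool.rec false q p

theorem band_iff (p q : Bool) : band p q = true ↔ p = true ∧ q = true := by
  cases p <;> cases q <;> simp [band]

def V.beq (v w : V) : Bool := band (Nat.beq v.x w.x) (band (Nat.beq v.y w.y) (Nat.beq v.z w.z))
def M.beq (m n : M) : Bool := band (V.beq m.a n.a) (band (V.beq m.b n.b) (V.beq m.c n.c))
def Af.beq (p q : Af) : Bool := band (V.beq p.v q.v) (M.beq p.m q.m)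

theorem V.eq_of_beq {v w : V} (h : V.beq v w = true) : v = w := by
  rw [V.beq, band_iff, band_iff] at h
  obtain ⟨h1, h2, h3⟩ := h
  cases v; cases w
  have h1 := Nat.eq_of_beq_eq_true h1
  have h2 := Nat.eq_of_beq_eq_true h2
  have h3 := Nat.eq_of_beq_eq_true h3
  simp_all

theorem M.eq_of_beq {m n : M} (h : M.beq m n = true) : m = n := by
  rw [M.beq, band_iff, band_iff] at h
  obtain ⟨h1, h2, h3⟩ := h
  cases m; cases n
  have h1 := V.eq_of_beq h1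
  have h2 := V.eq_of_beq h2
  have h3 := V.eq_of_beq h3
  simp_all

theorem Af.eq_of_beq {p q : Af} (h : Af.beq p q = true) : p = q := by
  rw [Af.beq, band_iff] at h
  obtain ⟨h1, h2⟩ := h
  cases p; cases q
  have h1 := V.eq_of_beq h1
  have h2 := M.eq_of_beq h2
  simp_all

/-- the value of a word -/
def evA (L : ℕ → Af) (w : List ℕ) : Af := List.rec Af.one (fun l _ p => Af.mul (L l) p) w

theorem evA_nil (L : ℕ → Af) : evA L [] = Af.one := rfl
theorem evA_cons (L : ℕ → Af) (l : ℕ) (w : List ℕ) : evA L (l :: w) = Af.mul (L l) (evA L w) := rfl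

/-- all words have value one -/
def allOne (L : ℕ → Af) (W : List (List ℕ)) : Bool :=
  List.rec true (fun w _ ih => band (Af.beq (evA L w) Af.one) ih) W

theorem allOne_iff {L : ℕ → Af} {W : List (List ℕ)} (h : allOne L W = true) : ∀ w ∈ W, evA L w = Af.one := by
  induction W with
  | nil => intro w hw; exact absurd hw List.not_mem_nil
  | cons v W ih =>
    have h' : band (Af.beq (evA L v) Af.one) (allOne L W) = true := h
    rw [band_iff] at h'
    intro w hw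
    rcases List.mem_cons.1 hw with rfl | hw
    · exact Af.eq_of_beq h'.1
    · exact ih h'.2 w hw

section group

variable {G : Type*} [Group G] (i a b : G)

/-- the element with given exponents -/
def e (v : V) : G := i ^ v.x * a ^ v.y * b ^ v.z

/-- `i, a, b` commute and have order dividing 4 -/
structure Ab : Prop where
  ia : i * a = a * i
  ib : i * b = b * i
  ab : a * b = b * a
  i4 : i ^ 4 = 1
  a4 : a ^ 4 = 1
  b4 : b ^ 4 = 1

variable {i a b}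

theorem e_mk_mul (h : Ab i a b) (x y z x' y' z' : ℕ) :
    e i a b ⟨x, y, z⟩ * e i a b ⟨x', y', z'⟩ = e i a b ⟨x + x', y + y', z + z'⟩ := by
  have h1 : Commute (a ^ y) (i ^ x') := (Commute.symm h.ia).pow_pow _ _
  have h2 : Commute (b ^ z) (i ^ x') := (Commute.symm h.ib).pow_pow _ _
  have h3 : Commute (b ^ z) (a ^ y') := (Commute.symm h.ab).pow_pow _ _
  simp only [e, pow_add]
  calc i ^ x * a ^ y * b ^ z * (i ^ x' * a ^ y' * b ^ z')
      = i ^ x * a ^ y * (b ^ z * i ^ x') * a ^ y' * b ^ z' := by group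
    _ = i ^ x * (a ^ y * i ^ x') * (b ^ z * a ^ y') * b ^ z' := by rw [h2.eq]; group
    _ = i ^ x * i ^ x' * (a ^ y * a ^ y') * (b ^ z * b ^ z') := by rw [h1.eq, h3.eq]; group

theorem e_mod (h : Ab i a b) (x y z : ℕ) : e i a b ⟨x % 4, y % 4, z % 4⟩ = e i a b ⟨x, y, z⟩ := by
  simp only [e]
  rw [← pow_eq_pow_mod x h.i4, ← pow_eq_pow_mod y h.a4, ← pow_eq_pow_mod z h.b4]

theorem e_mk_pow (h : Ab i a b) (x y z k : ℕ) :
    (e i a b ⟨x, y, z⟩) ^ k = e i a b ⟨k * x, k * y, k * z⟩ := by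
  induction k with
  | zero => simp [e]
  | succ k ih =>
    rw [pow_succ, ih, e_mk_mul h]
    congr 2 <;> ring

theorem e_add (h : Ab i a b) (v w : V) : e i a b (V.add v w) = e i a b v * e i a b w := by
  obtain ⟨x, y, z⟩ := v
  obtain ⟨x', y', z'⟩ := w
  rw [e_mk_mul h, ← e_mod h (x + x')]
  rfl

theorem e_zero : e i a b ⟨0, 0, 0⟩ = 1 := by simp [e]

/-- conjugation by `n` acts as the matrix `m` -/
structure Act (i a b n : G) (m : M) : Prop where
  hi : n * i * n⁻¹ = e i a b m.a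
  ha : n * a * n⁻¹ = e i a b m.b
  hb : n * b * n⁻¹ = e i a b m.c

theorem Act.app (h : Ab i a b) {n : G} {m : M} (hn : Act i a b n m) (v : V) :
    n * e i a b v * n⁻¹ = e i a b (m.app v) := by
  obtain ⟨x, y, z⟩ := v
  have h1 : n * e i a b ⟨x, y, z⟩ * n⁻¹ =
      (n * i * n⁻¹) ^ x * (n * a * n⁻¹) ^ y * (n * b * n⁻¹) ^ z := by
    simp only [e, conj_pow]; group
  rw [h1, hn.hi, hn.ha, hn.hb]
  obtain ⟨⟨a1, a2, a3⟩, ⟨b1, b2, b3⟩, ⟨c1, c2, c3⟩⟩ := m
  rw [e_mk_pow h, e_mk_pow h, e_mk_pow h, e_mk_mul h, e_mk_mul h, ← e_mod h (x * a1 + y * b1 + z * c1)]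
  rfl

theorem Act.mul (h : Ab i a b) {n n' : G} {m m' : M} (hn : Act i a b n m) (hn' : Act i a b n' m') :
    Act i a b (n * n') (m.mul m') := by
  have key : ∀ x : G, n * n' * x * (n * n')⁻¹ = n * (n' * x * n'⁻¹) * n⁻¹ := by intro x; group
  refine ⟨?_, ?_, ?_⟩
  · rw [key, hn'.hi, hn.app h]; rfl
  · rw [key, hn'.ha, hn.app h]; rfl
  · rw [key, hn'.hb, hn.app h]; rfl

theorem Act.one : Act i a b 1 M.one := by
  constructor <;> simp [e, M.one]

theorem Act.of_commute {n : G} (h1 : n * i = i * n) (h2 : n * a = a * n) (h3 : n * b = b * n) :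
    Act i a b n M.one := by
  constructor
  · rw [h1]; simp [e, M.one]
  · rw [h2]; simp [e, M.one]
  · rw [h3]; simp [e, M.one]

/-- elements of the abelian group act trivially -/
theorem act_e (h : Ab i a b) (v : V) : Act i a b (e i a b v) M.one := by
  have key : ∀ w : V, e i a b v * e i a b w = e i a b w * e i a b v := by
    intro w
    obtain ⟨x, y, z⟩ := v
    obtain ⟨x', y', z'⟩ := w
    rw [e_mk_mul h, e_mk_mul h]
    congr 2 <;> ring
  have hi : e i a b ⟨1, 0, 0⟩ = i := by simp [e]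
  have ha : e i a b ⟨0, 1, 0⟩ = a := by simp [e]
  have hb : e i a b ⟨0, 0, 1⟩ = b := by simp [e]
  refine Act.of_commute ?_ ?_ ?_
  · have := key ⟨1, 0, 0⟩; rwa [hi] at this
  · have := key ⟨0, 1, 0⟩; rwa [ha] at this
  · have := key ⟨0, 0, 1⟩; rwa [hb] at this

/-- `g` is represented by the affine map `p` -/
def Rep (i a b : G) (K : Subgroup G) (g : G) (p : Af) : Prop :=
  ∃ k ∈ K, g = e i a b p.v * k ∧ Act i a b k p.m

theorem Rep.mul (h : Ab i a b) {K : Subgroup G} {g g' : G} {p p' : Af} (hg : Rep i a b K g p)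
    (hg' : Rep i a b K g' p') : Rep i a b K (g * g') (p.mul p') := by
  obtain ⟨k, hk, rfl, hp⟩ := hg
  obtain ⟨k', hk', rfl, hp'⟩ := hg'
  refine ⟨k * k', K.mul_mem hk hk', ?_, hp.mul h hp'⟩
  have h1 : e i a b (Af.mul p p').v = e i a b p.v * e i a b (p.m.app p'.v) := e_add h _ _
  rw [h1, ← hp.app h]
  group

theorem Rep.one {K : Subgroup G} : Rep i a b K 1 Af.one :=
  ⟨1, K.one_mem, by simp [Af.one, e], Act.one⟩

theorem Rep.eq_one {K : Subgroup G} (hK : ∀ k ∈ K, k * i = i * k → k * a = a * k → k * b = b * k → k = 1)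
    {g : G} (hg : Rep i a b K g Af.one) : g = 1 := by
  obtain ⟨k, hk, rfl, hp⟩ := hg
  have h1 : k = 1 := by
    refine hK k hk ?_ ?_ ?_
    · have := hp.hi
      simp only [Af.one, M.one, e, pow_one, pow_zero, mul_one] at this
      rw [mul_inv_eq_iff_eq_mul] at this; exact this
    · have := hp.ha
      simp only [Af.one, M.one, e, pow_one, pow_zero, mul_one, one_mul] at this
      rw [mul_inv_eq_iff_eq_mul] at this; exact this
    · have := hp.hb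
      simp only [Af.one, M.one, e, pow_one, pow_zero, mul_one, one_mul] at this
      rw [mul_inv_eq_iff_eq_mul] at this; exact this
  rw [h1]
  simp [Af.one, e]

theorem Rep.ev (h : Ab i a b) {K : Subgroup G} {g : ℕ → G} {L : ℕ → Af} (w : List ℕ)
    (hw : ∀ l ∈ w, Rep i a b K (g l) (L l)) : Rep i a b K (w.map g).prod (evA L w) := by
  induction w with
  | nil => exact Rep.one
  | cons l w ih =>
    rw [List.map_cons, List.prod_cons, evA_cons]
    exact (hw l List.mem_cons_self).mul h (ih fun y hy => hw y (List.mem_cons_of_mem _ hy))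

/-- words with value one are relations -/
theorem relations (h : Ab i a b) {K : Subgroup G}
    (hK : ∀ k ∈ K, k * i = i * k → k * a = a * k → k * b = b * k → k = 1) {g : ℕ → G} {L : ℕ → Af}
    (hL : ∀ l, l < 14 → l ≠ 9 → Rep i a b K (g l) (L l)) {W : List (List ℕ)} (hW : allOne L W = true)
    (hlt : ∀ w ∈ W, ∀ l ∈ w, l < 14 ∧ l ≠ 9) : ∀ w ∈ W, (w.map g).prod = 1 := by
  intro w hw
  have h1 := Rep.ev h w (fun l hl => hL l (hlt w hw l hl).1 (hlt w hw l hl).2)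
  rw [allOne_iff hW w hw] at h1
  exact h1.eq_one hK

end group

end Cfsg.Agent.HSType.Affine
end

-- part: HSType/MFacts
section
set_option autoImplicit false

/-!
Model facts: the abelian group `⟨i, a, b⟩`, the matrices of `k, t, r`, the 24 elements of `⟨k, t⟩`.
-/

namespace Cfsg.Agent.HSType.MFacts

open Cfsg.Agent.HSType.Letters Cfsg.Agent.HSType.Affine Equiv

noncomputable section

/-- the matrix of `k` -/
def mK : M := ⟨⟨1, 0, 0⟩, ⟨0, 0, 1⟩, ⟨2, 3, 3⟩⟩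
/-- the matrix of `t` -/
def mT : M := ⟨⟨3, 0, 0⟩, ⟨0, 3, 0⟩, ⟨3, 3, 1⟩⟩
/-- the matrix of `r` -/
def mR : M := ⟨⟨0, 1, 0⟩, ⟨0, 0, 1⟩, ⟨1, 3, 2⟩⟩
/-- the matrix of `r⁻¹` -/
def mRi : M := ⟨⟨1, 2, 1⟩, ⟨1, 0, 0⟩, ⟨0, 1, 0⟩⟩

/-- the word `i^x a^y b^z` -/
def wv (x y z : ℕ) : List ℕ :=
  Nat.rec (Nat.rec (Nat.rec [] (fun _ w => 7 :: w) z) (fun _ w => 5 :: w) y) (fun _ w => 3 :: w) x

theorem ev_wv (x y z : ℕ) : evw (wv x y z) = e pi pa pb ⟨x, y, z⟩ := by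
  have h3 : ∀ z : ℕ, evw (Nat.rec [] (fun _ w => 7 :: w) z) = pb ^ z := by
    intro z
    induction z with
    | zero => rfl
    | succ z ih =>
      change evw (7 :: Nat.rec [] (fun _ w => 7 :: w) z) = _
      rw [evw, Cfsg.Agent.SporadicRecognition.CosetCert.ev_cons]
      change pb * evw _ = _
      rw [ih, pow_succ']
  have h2 : ∀ y : ℕ, evw (Nat.rec (Nat.rec [] (fun _ w => 7 :: w) z) (fun _ w => 5 :: w) y) =
      pa ^ y * pb ^ z := by
    intro y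
    induction y with
    | zero => rw [pow_zero, one_mul]; exact h3 z
    | succ y ih =>
      change evw (5 :: Nat.rec (Nat.rec [] (fun _ w => 7 :: w) z) (fun _ w => 5 :: w) y) = _
      rw [evw, Cfsg.Agent.SporadicRecognition.CosetCert.ev_cons]
      change pa * evw _ = _
      rw [ih, pow_succ', mul_assoc]
  induction x with
  | zero =>
    rw [e, pow_zero, one_mul]; exact h2 y
  | succ x ih =>
    change evw (3 :: wv x y z) = _
    rw [evw, Cfsg.Agent.SporadicRecognition.CosetCert.ev_cons]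
    change pi * evw _ = _
    rw [ih, e, e, pow_succ', mul_assoc, mul_assoc, mul_assoc]

/-- word equalities of the model -/
theorem weq {v w : List ℕ} (h : chkEq v w = true) : (v.map gl).prod = (w.map gl).prod := ev_eq h

theorem ab0 : Ab pi pa pb where
  ia := by simpa [gl] using weq (v := [3, 5]) (w := [5, 3]) (by decide +kernel)
  ib := by simpa [gl] using weq (v := [3, 7]) (w := [7, 3]) (by decide +kernel)
  ab := by simpa [gl] using weq (v := [5, 7]) (w := [7, 5]) (by decide +kernel)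
  i4 := by simpa [gl, pow_succ, mul_assoc] using weq (v := [3, 3, 3, 3]) (w := []) (by decide +kernel)
  a4 := by simpa [gl, pow_succ, mul_assoc] using weq (v := [5, 5, 5, 5]) (w := []) (by decide +kernel)
  b4 := by simpa [gl, pow_succ, mul_assoc] using weq (v := [7, 7, 7, 7]) (w := []) (by decide +kernel)

theorem act_of_words {l li : ℕ} (hl : gl li = (gl l)⁻¹) {x1 y1 z1 x2 y2 z2 x3 y3 z3 : ℕ}
    (h1 : chkEq [l, 3, li] (wv x1 y1 z1) = true) (h2 : chkEq [l, 5, li] (wv x2 y2 z2) = true)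
    (h3 : chkEq [l, 7, li] (wv x3 y3 z3) = true) :
    Act pi pa pb (gl l) ⟨⟨x1, y1, z1⟩, ⟨x2, y2, z2⟩, ⟨x3, y3, z3⟩⟩ := by
  have e1 := ev_eq h1
  have e2 := ev_eq h2
  have e3 := ev_eq h3
  rw [ev_wv] at e1 e2 e3
  refine ⟨?_, ?_, ?_⟩
  · rw [← e1, ← hl]; simp [evw, Cfsg.Agent.SporadicRecognition.CosetCert.ev, mul_assoc]; rfl
  · rw [← e2, ← hl]; simp [evw, Cfsg.Agent.SporadicRecognition.CosetCert.ev, mul_assoc]; rfl
  · rw [← e3, ← hl]; simp [evw, Cfsg.Agent.SporadicRecognition.CosetCert.ev, mul_assoc]; rfl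

theorem tt : pt⁻¹ = pt := by
  rw [inv_eq_iff_mul_eq_one]
  simpa [gl] using weq (v := [2, 2]) (w := []) (by decide +kernel)

theorem hh : ph⁻¹ = ph := by
  rw [inv_eq_iff_mul_eq_one]
  simpa [gl] using weq (v := [9, 9]) (w := []) (by decide +kernel)

theorem actK : Act pi pa pb pk mK :=
  act_of_words (l := 0) (li := 1) rfl (by decide +kernel) (by decide +kernel) (by decide +kernel)
theorem actT : Act pi pa pb pt mT :=
  act_of_words (l := 2) (li := 2) tt.symm (by decide +kernel) (by decide +kernel) (by decide +kernel)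
theorem actR : Act pi pa pb pr mR :=
  act_of_words (l := 10) (li := 11) rfl (by decide +kernel) (by decide +kernel) (by decide +kernel)

/-! ### The 64 elements -/

theorem chkOne_of_eq {w : List ℕ} (h : evw w = 1) : chkOne w = true := by
  refine (Cfsg.Agent.SporadicA.PermTab.allB_iff _ _).2 fun x hx => ?_
  have h1 := ev_val w ⟨x, hx⟩
  rw [h] at h1
  change x = evp w x at h1
  change Nat.beq (evp w x) x = true
  rw [← h1]
  exact Nat.beq_refl _

/-- only the exponents 0, 0, 0 give the identity -/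
def chkInj : Bool :=
  Cfsg.Agent.SporadicA.PermTab.allB (fun x => Cfsg.Agent.SporadicA.PermTab.allB (fun y =>
    Cfsg.Agent.SporadicA.PermTab.allB (fun z =>
      cond (chkOne (wv x y z)) (Nat.beq (Nat.add (Nat.add x y) z) 0) true) 4) 4) 4

theorem chkInj_ok : chkInj = true := by decide +kernel

theorem e_inj {v : V} (h : e pi pa pb v = 1) : v.x % 4 = 0 ∧ v.y % 4 = 0 ∧ v.z % 4 = 0 := by
  obtain ⟨x, y, z⟩ := v
  rw [← e_mod ab0, ← ev_wv] at h
  have h1 := chkOne_of_eq h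
  have h2 := (Cfsg.Agent.SporadicA.PermTab.allB_iff _ _).1 chkInj_ok (x % 4) (Nat.mod_lt _ (by norm_num))
  have h3 := (Cfsg.Agent.SporadicA.PermTab.allB_iff _ _).1 h2 (y % 4) (Nat.mod_lt _ (by norm_num))
  have h4 := (Cfsg.Agent.SporadicA.PermTab.allB_iff _ _).1 h3 (z % 4) (Nat.mod_lt _ (by norm_num))
  rw [h1] at h4
  have h5 : x % 4 + y % 4 + z % 4 = 0 := Nat.eq_of_beq_eq_true h4
  dsimp only
  omega

/-! ### The 24 elements of `⟨k, t⟩` -/

/-- words for the 24 elements of `⟨k, t⟩` -/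
def pw (n : ℕ) : List ℕ := Nat.rec [] (fun n _ => Nat.rec [0] (fun n _ => Nat.rec [2] (fun n _ => Nat.rec [0,0] (fun n _ => Nat.rec [0,2] (fun n _ => Nat.rec [2,0] (fun n _ => Nat.rec [0,0,2] (fun n _ => Nat.rec [0,2,0] (fun n _ => Nat.rec [2,0,0] (fun n _ => Nat.rec [2,0,2] (fun n _ => Nat.rec [0,0,2,0] (fun n _ => Nat.rec [0,2,0,0] (fun n _ => Nat.rec [0,2,0,2] (fun n _ => Nat.rec [2,0,0,2] (fun n _ => Nat.rec [2,0,2,0] (fun n _ => Nat.rec [0,0,2,0,0] (fun n _ => Nat.rec [0,0,2,0,2] (fun n _ => Nat.rec [0,2,0,0,2] (fun n _ => Nat.rec [2,0,0,2,0] (fun n _ => Nat.rec [2,0,2,0,0] (fun n _ => Nat.rec [0,2,0,0,2,0] (fun n _ => Nat.rec [2,0,0,2,0,2] (fun n _ => Nat.rec [2,0,2,0,0,2] (fun n _ => Nat.rec [2,0,2,0,0,2,0] (fun n _ => []) n) n) n) n) n) n) n) n) n) n) n) n) n) n) n) n) n) n) n) n) n) n) n) n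

/-- `k` times the n-th element -/
def kn (n : ℕ) : ℕ := Nat.rec 1 (fun n _ => Nat.rec 3 (fun n _ => Nat.rec 4 (fun n _ => Nat.rec 0 (fun n _ => Nat.rec 6 (fun n _ => Nat.rec 7 (fun n _ => Nat.rec 2 (fun n _ => Nat.rec 10 (fun n _ => Nat.rec 11 (fun n _ => Nat.rec 12 (fun n _ => Nat.rec 5 (fun n _ => Nat.rec 15 (fun n _ => Nat.rec 16 (fun n _ => Nat.rec 17 (fun n _ => Nat.rec 13 (fun n _ => Nat.rec 8 (fun n _ => Nat.rec 9 (fun n _ => Nat.rec 14 (fun n _ => Nat.rec 20 (fun n _ => Nat.rec 18 (fun n _ => Nat.rec 19 (fun n _ => Nat.rec 23 (fun n _ => Nat.rec 21 (fun n _ => Nat.rec 22 (fun n _ => 0) n) n) n) n) n) n) n) n) n) n) n) n) n) n) n) n) n) n) n) n) n) n) n) n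

/-- `t` times the n-th element -/
def tn (n : ℕ) : ℕ := Nat.rec 2 (fun n _ => Nat.rec 5 (fun n _ => Nat.rec 0 (fun n _ => Nat.rec 8 (fun n _ => Nat.rec 9 (fun n _ => Nat.rec 1 (fun n _ => Nat.rec 13 (fun n _ => Nat.rec 14 (fun n _ => Nat.rec 3 (fun n _ => Nat.rec 4 (fun n _ => Nat.rec 18 (fun n _ => Nat.rec 19 (fun n _ => Nat.rec 15 (fun n _ => Nat.rec 6 (fun n _ => Nat.rec 7 (fun n _ => Nat.rec 12 (fun n _ => Nat.rec 21 (fun n _ => Nat.rec 22 (fun n _ => Nat.rec 10 (fun n _ => Nat.rec 11 (fun n _ => Nat.rec 23 (fun n _ => Nat.rec 16 (fun n _ => Nat.rec 17 (fun n _ => Nat.rec 20 (fun n _ => 0) n) n) n) n) n) n) n) n) n) n) n) n) n) n) n) n) n) n) n) n) n) n) n) n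

theorem kn_ok : Cfsg.Agent.SporadicA.PermTab.allB (fun n => Affine.band (Nat.blt (kn n) 24)
    (chkEq (0 :: pw n) (pw (kn n)))) 24 = true := by decide +kernel
theorem tn_ok : Cfsg.Agent.SporadicA.PermTab.allB (fun n => Affine.band (Nat.blt (tn n) 24)
    (chkEq (2 :: pw n) (pw (tn n)))) 24 = true := by decide +kernel

theorem k_mul_pw {n : ℕ} (hn : n < 24) : kn n < 24 ∧ pk * evw (pw n) = evw (pw (kn n)) := by
  have h := (Cfsg.Agent.SporadicA.PermTab.allB_iff _ _).1 kn_ok n hn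
  rw [Affine.band_iff] at h
  refine ⟨Nat.blt_eq ▸ h.1, ?_⟩
  rw [← ev_eq h.2, evw, evw, Cfsg.Agent.SporadicRecognition.CosetCert.ev_cons]
  rfl

theorem t_mul_pw {n : ℕ} (hn : n < 24) : tn n < 24 ∧ pt * evw (pw n) = evw (pw (tn n)) := by
  have h := (Cfsg.Agent.SporadicA.PermTab.allB_iff _ _).1 tn_ok n hn
  rw [Affine.band_iff] at h
  refine ⟨Nat.blt_eq ▸ h.1, ?_⟩
  rw [← ev_eq h.2, evw, evw, Cfsg.Agent.SporadicRecognition.CosetCert.ev_cons]
  rfl

theorem kkk : pk⁻¹ = pk * pk := by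
  rw [inv_eq_iff_mul_eq_one]
  simpa [gl, mul_assoc] using weq (v := [0, 0, 0]) (w := []) (by decide +kernel)

/-- the group `⟨k, t⟩` -/
def KT : Subgroup (Perm (Fin 100)) := Subgroup.closure {pk, pt}

theorem mem_KT {c : Perm (Fin 100)} (hc : c ∈ KT) : ∃ n < 24, c = evw (pw n) := by
  refine Subgroup.closure_induction_left (p := fun c _ => ∃ n < 24, c = evw (pw n)) ?_ ?_ ?_ hc
  · exact ⟨0, by norm_num, rfl⟩
  · rintro x (rfl | rfl) y - ⟨n, hn, rfl⟩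
    · exact ⟨kn n, (k_mul_pw hn).1, (k_mul_pw hn).2⟩
    · exact ⟨tn n, (t_mul_pw hn).1, (t_mul_pw hn).2⟩
  · rintro x (rfl | rfl) y - ⟨n, hn, rfl⟩
    · obtain ⟨h1, h2⟩ := k_mul_pw hn
      obtain ⟨h3, h4⟩ := k_mul_pw h1
      exact ⟨_, h3, by rw [kkk, mul_assoc, h2, h4]⟩
    · rw [tt]
      exact ⟨tn n, (t_mul_pw hn).1, (t_mul_pw hn).2⟩

/-- the group `⟨k, t, i, a, b⟩` -/
def B0 : Subgroup (Perm (Fin 100)) := Subgroup.closure {pk, pt, pi, pa, pb}

theorem B0_le : B0 ≤ C0 := Subgroup.closure_mono (by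
  rintro g (rfl | rfl | rfl | rfl | rfl) <;> simp)

theorem KT_le : KT ≤ B0 := Subgroup.closure_mono (by
  rintro g (rfl | rfl) <;> simp)

theorem act_mul_e {n : Perm (Fin 100)} {m : M} (h : Act pi pa pb n m) (v : V) :
    n * e pi pa pb v = e pi pa pb (m.app v) * n := by
  rw [← h.app ab0]; group

theorem mem_B0 {c : Perm (Fin 100)} (hc : c ∈ B0) : ∃ v : V, ∃ n < 24, c = e pi pa pb v * evw (pw n) := by
  have hk : ∀ y : Perm (Fin 100), (∃ v : V, ∃ n < 24, y = e pi pa pb v * evw (pw n)) →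
      ∃ v : V, ∃ n < 24, pk * y = e pi pa pb v * evw (pw n) := by
    rintro y ⟨v, n, hn, rfl⟩
    refine ⟨mK.app v, kn n, (k_mul_pw hn).1, ?_⟩
    rw [← (k_mul_pw hn).2, ← mul_assoc, ← mul_assoc, act_mul_e actK]
  have ht : ∀ y : Perm (Fin 100), (∃ v : V, ∃ n < 24, y = e pi pa pb v * evw (pw n)) →
      ∃ v : V, ∃ n < 24, pt * y = e pi pa pb v * evw (pw n) := by
    rintro y ⟨v, n, hn, rfl⟩
    refine ⟨mT.app v, tn n, (t_mul_pw hn).1, ?_⟩
    rw [← (t_mul_pw hn).2, ← mul_assoc, ← mul_assoc, act_mul_e actT]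
  have he : ∀ (w : V) (y : Perm (Fin 100)), (∃ v : V, ∃ n < 24, y = e pi pa pb v * evw (pw n)) →
      ∃ v : V, ∃ n < 24, e pi pa pb w * y = e pi pa pb v * evw (pw n) := by
    rintro w y ⟨v, n, hn, rfl⟩
    exact ⟨V.add w v, n, hn, by rw [e_add ab0, mul_assoc]⟩
  have hi : e pi pa pb ⟨1, 0, 0⟩ = pi := by simp [e]
  have ha : e pi pa pb ⟨0, 1, 0⟩ = pa := by simp [e]
  have hb : e pi pa pb ⟨0, 0, 1⟩ = pb := by simp [e]
  have hi' : e pi pa pb ⟨3, 0, 0⟩ = pi⁻¹ := by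
    rw [eq_inv_iff_mul_eq_one]
    simp only [e, pow_zero, mul_one]; rw [← pow_succ]; exact ab0.i4
  have ha' : e pi pa pb ⟨0, 3, 0⟩ = pa⁻¹ := by
    rw [eq_inv_iff_mul_eq_one]
    simp only [e, pow_zero, mul_one, one_mul]; rw [← pow_succ]; exact ab0.a4
  have hb' : e pi pa pb ⟨0, 0, 3⟩ = pb⁻¹ := by
    rw [eq_inv_iff_mul_eq_one]
    simp only [e, pow_zero, one_mul]; rw [← pow_succ]; exact ab0.b4
  refine Subgroup.closure_induction_left (p := fun c _ => ∃ v : V, ∃ n < 24, c = e pi pa pb v * evw (pw n))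
    ?_ ?_ ?_ hc
  · exact ⟨⟨0, 0, 0⟩, 0, by norm_num, by rw [e_zero, one_mul]; rfl⟩
  · rintro x (rfl | rfl | rfl | rfl | rfl) y - h
    · exact hk y h
    · exact ht y h
    · rw [← hi]; rw [← hi] at h; exact he _ y (by simpa only [hi] using h)
    · rw [← ha]; exact he _ y (by simpa only [ha] using h)
    · rw [← hb]; exact he _ y (by simpa only [hb] using h)
  · rintro x (rfl | rfl | rfl | rfl | rfl) y - h
    · rw [kkk, mul_assoc]; exact hk _ (hk y h)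
    · rw [tt]; exact ht y h
    · rw [← hi']; exact he _ y h
    · rw [← ha']; exact he _ y h
    · rw [← hb']; exact he _ y h

/-! ### Parity -/

/-- generators of `C0` centralise or invert `i` -/
theorem parity {c : Perm (Fin 100)} (hc : c ∈ C0) : c * pi * c⁻¹ = pi ∨ c * pi * c⁻¹ = pi⁻¹ := by
  have key : ∀ x : Perm (Fin 100), (x * pi * x⁻¹ = pi ∨ x * pi * x⁻¹ = pi⁻¹) → ∀ y : Perm (Fin 100),
      (y * pi * y⁻¹ = pi ∨ y * pi * y⁻¹ = pi⁻¹) → ((x * y) * pi * (x * y)⁻¹ = pi ∨ (x * y) * pi * (x * y)⁻¹ = pi⁻¹) := by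
    intro x hx y hy
    have h1 : (x * y) * pi * (x * y)⁻¹ = x * (y * pi * y⁻¹) * x⁻¹ := by group
    have h2 : x * pi⁻¹ * x⁻¹ = (x * pi * x⁻¹)⁻¹ := by group
    rw [h1]
    rcases hx with hx | hx <;> rcases hy with hy | hy <;> rw [hy]
    · exact Or.inl hx
    · rw [h2, hx]; exact Or.inr rfl
    · exact Or.inr hx
    · rw [h2, hx, inv_inv]; exact Or.inl rfl
  refine Subgroup.closure_induction (p := fun c _ => c * pi * c⁻¹ = pi ∨ c * pi * c⁻¹ = pi⁻¹) ?_ ?_ ?_ ?_ hc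
  · rintro x (rfl | rfl | rfl | rfl | rfl | rfl)
    · left; rw [actK.hi]; simp [e, mK]
    · right
      rw [actT.hi, eq_inv_iff_mul_eq_one]
      simp only [e, mT, pow_zero, mul_one]; rw [← pow_succ]; exact ab0.i4
    · left; group
    · left; rw [← ab0.ia]; group
    · left; rw [← ab0.ib]; group
    · right
      rw [hh, eq_inv_iff_mul_eq_one]
      simpa [gl, mul_assoc] using weq (v := [9, 3, 9, 3]) (w := []) (by decide +kernel)
  · left; simp
  · intro x y _ _ hx hy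
    exact key x hx y hy
  · intro x _ hx
    have h2 : x⁻¹ * pi * x⁻¹⁻¹ = x⁻¹ * pi * x := by group
    rcases hx with hx | hx
    · left; rw [h2]; nth_rewrite 1 [← hx]; group
    · right
      rw [h2]
      have h3 : pi = x * pi⁻¹ * x⁻¹ := by
        have : x * pi⁻¹ * x⁻¹ = (x * pi * x⁻¹)⁻¹ := by group
        rw [this, hx, inv_inv]
      nth_rewrite 1 [h3]; group

end

end Cfsg.Agent.HSType.MFacts
end

-- part: HSType/AffData
section
set_option autoImplicit false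

/-!
Closed computations with affine maps over `ℤ/4`: uniqueness of the matrix of `r` over its reduction modulo 2,
the existence of a suitable element of `⟨k, t⟩`, and the eight possible gluings.
-/

namespace Cfsg.Agent.HSType.AffData

open Cfsg.Agent.HSType.Letters Cfsg.Agent.HSType.Affine Cfsg.Agent.HSType.MFacts
open Cfsg.Agent.SporadicA.PermTab (allB allB_iff)

/-- the affine maps of `k` and `t` -/
def LP (n : ℕ) : Af := Nat.rec ⟨⟨0, 0, 0⟩, mK⟩ (fun _ _ => ⟨⟨0, 0, 0⟩, mT⟩) n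

/-- the matrices of the elements of `⟨k, t⟩` -/
def pm (n : ℕ) : M := (evA LP (pw n)).m

/-! ### Lifts of the matrix of `r` -/

/-- a lift of the residue of `r` -/
def en (r : ℕ) (d : Bool) : ℕ := cond d (Nat.mod (Nat.add r 2) 4) r

theorem exists_en {m r : ℕ} (hm : m < 4) (hr : r < 4) (h : m % 2 = r % 2) : ∃ d, m = en r d := by
  by_cases h1 : m = r
  · exact ⟨false, h1⟩
  · refine ⟨true, ?_⟩
    change m = (r + 2) % 4
    omega

/-- a matrix over the reduction of `mR` -/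
def lift (d1 d2 d3 d4 d5 d6 d7 d8 d9 : Bool) : M :=
  ⟨⟨en 0 d1, en 1 d2, en 0 d3⟩, ⟨en 0 d4, en 0 d5, en 1 d6⟩, ⟨en 1 d7, en 3 d8, en 2 d9⟩⟩

/-- the left side `k t r k` -/
def lhs (m : M) : M := M.mul mK (M.mul mT (M.mul m mK))
/-- the right side `r t r` -/
def rhs (m : M) : M := M.mul m (M.mul mT m)

/-- the same action on involutions -/
def same2 (m n : M) : Bool :=
  band (V.beq (m.app ⟨2, 0, 0⟩) (n.app ⟨2, 0, 0⟩)) (band (V.beq (m.app ⟨0, 2, 0⟩) (n.app ⟨0, 2, 0⟩))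
    (V.beq (m.app ⟨0, 0, 2⟩) (n.app ⟨0, 0, 2⟩)))

/-- the test for a lift -/
def liftTest (m : M) : Bool := band (same2 (lhs m) (rhs m)) (cond (M.beq (lhs m) (rhs m)) (M.beq m mR) true)

/-- quantification over Booleans -/
def allBool (p : Bool → Bool) : Bool := band (p true) (p false)

theorem allBool_iff {p : Bool → Bool} (h : allBool p = true) (b : Bool) : p b = true := by
  rw [allBool, Affine.band_iff] at h
  cases b
  · exact h.2
  · exact h.1

theorem lift_ok : (allBool fun d1 => allBool fun d2 => allBool fun d3 => allBool fun d4 => allBool fun d5 =>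
    allBool fun d6 => allBool fun d7 => allBool fun d8 => allBool fun d9 =>
    liftTest (lift d1 d2 d3 d4 d5 d6 d7 d8 d9)) = true := by decide +kernel

theorem lift_spec (d1 d2 d3 d4 d5 d6 d7 d8 d9 : Bool) : liftTest (lift d1 d2 d3 d4 d5 d6 d7 d8 d9) = true :=
  allBool_iff (allBool_iff (allBool_iff (allBool_iff (allBool_iff (allBool_iff (allBool_iff (allBool_iff
    (allBool_iff lift_ok d1) d2) d3) d4) d5) d6) d7) d8) d9

/-- reduced vectors -/
def V.lt (v : V) : Prop := v.x < 4 ∧ v.y < 4 ∧ v.z < 4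

theorem exists_lift {m : M} (ha : V.lt m.a) (hb : V.lt m.b) (hc : V.lt m.c)
    (ea : m.a.x % 2 = 0 ∧ m.a.y % 2 = 1 ∧ m.a.z % 2 = 0) (eb : m.b.x % 2 = 0 ∧ m.b.y % 2 = 0 ∧ m.b.z % 2 = 1)
    (ec : m.c.x % 2 = 1 ∧ m.c.y % 2 = 1 ∧ m.c.z % 2 = 0) :
    ∃ d1 d2 d3 d4 d5 d6 d7 d8 d9, m = lift d1 d2 d3 d4 d5 d6 d7 d8 d9 := by
  obtain ⟨⟨a1, a2, a3⟩, ⟨b1, b2, b3⟩, ⟨c1, c2, c3⟩⟩ := m
  obtain ⟨ha1, ha2, ha3⟩ := ha
  obtain ⟨hb1, hb2, hb3⟩ := hb
  obtain ⟨hc1, hc2, hc3⟩ := hc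
  obtain ⟨ea1, ea2, ea3⟩ := ea
  obtain ⟨eb1, eb2, eb3⟩ := eb
  obtain ⟨ec1, ec2, ec3⟩ := ec
  obtain ⟨d1, rfl⟩ := exists_en (r := 0) ha1 (by norm_num) ea1
  obtain ⟨d2, rfl⟩ := exists_en (r := 1) ha2 (by norm_num) ea2
  obtain ⟨d3, rfl⟩ := exists_en (r := 0) ha3 (by norm_num) ea3
  obtain ⟨d4, rfl⟩ := exists_en (r := 0) hb1 (by norm_num) eb1
  obtain ⟨d5, rfl⟩ := exists_en (r := 0) hb2 (by norm_num) eb2
  obtain ⟨d6, rfl⟩ := exists_en (r := 1) hb3 (by norm_num) eb3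
  obtain ⟨d7, rfl⟩ := exists_en (r := 1) hc1 (by norm_num) ec1
  obtain ⟨d8, rfl⟩ := exists_en (r := 3) hc2 (by norm_num) ec2
  obtain ⟨d9, rfl⟩ := exists_en (r := 2) hc3 (by norm_num) ec3
  exact ⟨d1, d2, d3, d4, d5, d6, d7, d8, d9, rfl⟩

/-! ### An element of `⟨k, t⟩` with given action -/

/-- Boolean to exponent -/
def bx (b : Bool) (n : ℕ) : ℕ := cond b n 0

/-- a matrix over the residue field with second column `e₁` -/
def m2 (d1 d2 d3 d4 d5 d6 : Bool) : M := ⟨⟨bx d1 1, bx d2 1, bx d3 1⟩, ⟨1, 0, 0⟩, ⟨bx d4 1, bx d5 1, bx d6 1⟩⟩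

/-- some non-zero vector `2 v` is killed -/
def sing (m : M) : Bool := Bool.not (allBool fun a => allBool fun b => allBool fun c =>
  cond (V.beq (m.app ⟨bx a 2, bx b 2, bx c 2⟩) ⟨0, 0, 0⟩) (Bool.not (Bool.or a (Bool.or b c))) true)

/-- the n-th element of `⟨k, t⟩` has the right action -/
def good (m : M) (n : ℕ) : Bool := band (V.beq ((pm n).app ⟨0, 2, 0⟩) (m.app ⟨0, 0, 2⟩))
  (V.beq ((pm n).app ⟨0, 0, 2⟩) (m.app ⟨2, 2, 0⟩))

theorem good_ok : (allBool fun d1 => allBool fun d2 => allBool fun d3 => allBool fun d4 => allBool fun d5 =>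
    allBool fun d6 => Bool.or (sing (m2 d1 d2 d3 d4 d5 d6))
      (Bool.not (allB (fun n => Bool.not (good (m2 d1 d2 d3 d4 d5 d6) n)) 24))) = true := by decide +kernel

theorem exists_good (d1 d2 d3 d4 d5 d6 : Bool) (h : sing (m2 d1 d2 d3 d4 d5 d6) = false) :
    ∃ n < 24, good (m2 d1 d2 d3 d4 d5 d6) n = true := by
  have h1 := allBool_iff (allBool_iff (allBool_iff (allBool_iff (allBool_iff (allBool_iff good_ok d1) d2) d3)
    d4) d5) d6
  rw [h, Bool.false_or, Bool.not_eq_true'] at h1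
  by_contra hc
  push Not at hc
  have h2 : allB (fun n => Bool.not (good (m2 d1 d2 d3 d4 d5 d6) n)) 24 = true := by
    refine (allB_iff _ _).2 fun n hn => ?_
    have := hc n hn
    simpa using this
  rw [h2] at h1
  exact absurd h1 (by decide)

/-! ### The gluings -/

/-- the affine maps of the letters, for `t = i^τ t'`, `r = i^y r'` -/
def LA (tau y : V) (n : ℕ) : Af :=
  Nat.rec ⟨⟨0, 0, 0⟩, mK⟩ (fun n _ => Nat.rec ⟨⟨0, 0, 0⟩, M.mul mK mK⟩ (fun n _ =>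
  Nat.rec ⟨tau, mT⟩ (fun n _ => Nat.rec ⟨⟨1, 0, 0⟩, M.one⟩ (fun n _ => Nat.rec ⟨⟨3, 0, 0⟩, M.one⟩ (fun n _ =>
  Nat.rec ⟨⟨0, 1, 0⟩, M.one⟩ (fun n _ => Nat.rec ⟨⟨0, 3, 0⟩, M.one⟩ (fun n _ =>
  Nat.rec ⟨⟨0, 0, 1⟩, M.one⟩ (fun n _ => Nat.rec ⟨⟨0, 0, 3⟩, M.one⟩ (fun n _ =>
  Nat.rec Af.one (fun n _ => Nat.rec ⟨y, mR⟩ (fun n _ =>
  Nat.rec (Af.mul ⟨⟨0, 0, 0⟩, mRi⟩ ⟨⟨Nat.mul 3 y.x, Nat.mul 3 y.y, Nat.mul 3 y.z⟩, M.one⟩) (fun n _ =>
  Nat.rec (Af.mul ⟨y, mR⟩ ⟨⟨0, 0, 0⟩, mK⟩) (fun _ _ =>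
    Af.mul ⟨⟨0, 0, 0⟩, M.mul mK mK⟩
      (Af.mul ⟨⟨0, 0, 0⟩, mRi⟩ ⟨⟨Nat.mul 3 y.x, Nat.mul 3 y.y, Nat.mul 3 y.z⟩, M.one⟩))
    n) n) n) n) n) n) n) n) n) n) n) n) n

/-- the action of `u` on the group `⟨t, a², i², k t k⁻¹ t k⟩` -/
def relN2 : List (List ℕ) := [[12, 2, 13, 1, 2, 0, 2, 1], [12, 5, 5, 13, 4, 4, 6, 6], [12, 3, 3, 13, 6, 6],
  [12, 0, 2, 1, 2, 0, 13, 1, 2, 0, 2, 1, 2]]

/-- all relations of the normaliser that are used -/
def relNN : List (List ℕ) := relN ++ relN2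

/-- the orders of `t` and `k t` are 2 and 4 -/
def tauOk (tau : V) : Bool :=
  band (Af.beq (evA (LA tau ⟨0, 0, 0⟩) [2, 2]) Af.one)
    (Af.beq (evA (LA tau ⟨0, 0, 0⟩) [0, 2, 0, 2, 0, 2, 0, 2]) Af.one)

/-- one of the two choices of `y` works -/
def someY (tau : V) : Bool := Bool.or (allOne (LA tau ⟨0, 0, 0⟩) relNN) (allOne (LA tau ⟨1, 3, 0⟩) relNN)

theorem tau_ok : (allB (fun x => allB (fun y => allB (fun z =>
    cond (tauOk ⟨x, y, z⟩) (Bool.or (someY ⟨x, y, z⟩) (someY (V.add ⟨x, y, z⟩ (mT.app ⟨1, 0, 0⟩)))) true)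
      4) 4) 4) = true := by decide +kernel

theorem exists_y {tau : V} (hlt : V.lt tau) (h : tauOk tau = true) :
    (∃ y, allOne (LA tau y) relNN = true) ∨
      ∃ y, allOne (LA (V.add tau (mT.app ⟨1, 0, 0⟩)) y) relNN = true := by
  obtain ⟨x, y, z⟩ := tau
  obtain ⟨hx, hy, hz⟩ := hlt
  have h1 := (allB_iff _ _).1 ((allB_iff _ _).1 ((allB_iff _ _).1 tau_ok x hx) y hy) z hz
  rw [h, cond_true, Bool.or_eq_true] at h1
  have key : ∀ tau : V, someY tau = true → ∃ y, allOne (LA tau y) relNN = true := by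
    intro tau h
    rw [someY, Bool.or_eq_true] at h
    rcases h with h | h
    · exact ⟨_, h⟩
    · exact ⟨_, h⟩
  rcases h1 with h1 | h1
  · exact Or.inl (key _ h1)
  · exact Or.inr (key _ h1)

theorem relNN_lt : ∀ w ∈ relNN, ∀ l ∈ w, l < 14 ∧ l ≠ 9 := by decide

end Cfsg.Agent.HSType.AffData
end

-- part: HSType/AffLemmas
section
set_option autoImplicit false

/-!
Generic lemmas on the representation of a group by exponents and matrices modulo 4.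
-/

namespace Cfsg.Agent.HSType.AffLemmas

open Cfsg.Agent.HSType.Affine Cfsg.Agent.HSType.AffData

section group

variable {G : Type*} [Group G] {i a b : G}

theorem e_congr (h : Ab i a b) {v w : V} (hx : v.x % 4 = w.x % 4) (hy : v.y % 4 = w.y % 4)
    (hz : v.z % 4 = w.z % 4) : e i a b v = e i a b w := by
  obtain ⟨x, y, z⟩ := v
  obtain ⟨x', y', z'⟩ := w
  rw [← e_mod h x y z, ← e_mod h x' y' z']
  dsimp only at hx hy hz
  rw [hx, hy, hz]

theorem e_inv (h : Ab i a b) (v : V) : (e i a b v)⁻¹ = e i a b ⟨3 * v.x, 3 * v.y, 3 * v.z⟩ := by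
  obtain ⟨x, y, z⟩ := v
  rw [inv_eq_iff_mul_eq_one, e_mk_mul h, ← e_mod h]
  have h1 : ∀ n : ℕ, (n + 3 * n) % 4 = 0 := by intro n; omega
  rw [h1, h1, h1, e_zero]

/-- the group `⟨i, a, b⟩` -/
def sub (h : Ab i a b) : Subgroup G where
  carrier := {g | ∃ v, g = e i a b v}
  mul_mem' := by
    rintro _ _ ⟨v, rfl⟩ ⟨w, rfl⟩
    exact ⟨V.add v w, (e_add h v w).symm⟩
  one_mem' := ⟨⟨0, 0, 0⟩, e_zero.symm⟩
  inv_mem' := by
    rintro _ ⟨v, rfl⟩
    exact ⟨_, e_inv h v⟩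

theorem mem_sub {h : Ab i a b} {g : G} : g ∈ sub h ↔ ∃ v, g = e i a b v := Iff.rfl

theorem e_mem (h : Ab i a b) (v : V) : e i a b v ∈ sub h := ⟨v, rfl⟩

theorem e100 : e i a b ⟨1, 0, 0⟩ = i := by simp [e]
theorem e010 : e i a b ⟨0, 1, 0⟩ = a := by simp [e]
theorem e001 : e i a b ⟨0, 0, 1⟩ = b := by simp [e]

theorem i_mem (h : Ab i a b) : i ∈ sub h := ⟨_, e100.symm⟩
theorem a_mem (h : Ab i a b) : a ∈ sub h := ⟨_, e010.symm⟩
theorem b_mem (h : Ab i a b) : b ∈ sub h := ⟨_, e001.symm⟩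

theorem e_comm (h : Ab i a b) (v w : V) : e i a b v * e i a b w = e i a b w * e i a b v := by
  obtain ⟨x, y, z⟩ := v
  obtain ⟨x', y', z'⟩ := w
  rw [e_mk_mul h, e_mk_mul h]
  congr 2 <;> ring

theorem sub_comm (h : Ab i a b) {x y : G} (hx : x ∈ sub h) (hy : y ∈ sub h) : x * y = y * x := by
  obtain ⟨v, rfl⟩ := hx
  obtain ⟨w, rfl⟩ := hy
  exact e_comm h v w

theorem sub_eq_closure (h : Ab i a b) : sub h = Subgroup.closure {i, a, b} := by
  apply le_antisymm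
  · rintro _ ⟨v, rfl⟩
    have hi : i ∈ Subgroup.closure ({i, a, b} : Set G) := Subgroup.subset_closure (by simp)
    have ha : a ∈ Subgroup.closure ({i, a, b} : Set G) := Subgroup.subset_closure (by simp)
    have hb : b ∈ Subgroup.closure ({i, a, b} : Set G) := Subgroup.subset_closure (by simp)
    exact Subgroup.mul_mem _ (Subgroup.mul_mem _ (Subgroup.pow_mem _ hi _) (Subgroup.pow_mem _ ha _))
      (Subgroup.pow_mem _ hb _)
  · rw [Subgroup.closure_le]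
    rintro x (rfl | rfl | rfl)
    · exact i_mem h
    · exact a_mem h
    · exact b_mem h

/-- the exponents modulo 4 are determined -/
def Inj (i a b : G) : Prop := ∀ v : V, e i a b v = 1 → v.x % 4 = 0 ∧ v.y % 4 = 0 ∧ v.z % 4 = 0

theorem Inj.eq (h : Ab i a b) (hj : Inj i a b) {v w : V} (hvw : e i a b v = e i a b w) :
    v.x % 4 = w.x % 4 ∧ v.y % 4 = w.y % 4 ∧ v.z % 4 = w.z % 4 := by
  have h1 : e i a b (V.add v ⟨3 * w.x, 3 * w.y, 3 * w.z⟩) = 1 := by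
    rw [e_add h, ← e_inv h, hvw, mul_inv_cancel]
  obtain ⟨h2, h3, h4⟩ := hj _ h1
  change ((v.x + 3 * w.x) % 4) % 4 = 0 at h2
  change ((v.y + 3 * w.y) % 4) % 4 = 0 at h3
  change ((v.z + 3 * w.z) % 4) % 4 = 0 at h4
  omega

/-- reduction of a vector -/
def red (v : V) : V := ⟨v.x % 4, v.y % 4, v.z % 4⟩

theorem e_red (h : Ab i a b) (v : V) : e i a b (red v) = e i a b v := by
  obtain ⟨x, y, z⟩ := v
  exact e_mod h x y z

theorem red_lt (v : V) : AffData.V.lt (red v) :=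
  ⟨Nat.mod_lt _ (by norm_num), Nat.mod_lt _ (by norm_num), Nat.mod_lt _ (by norm_num)⟩

theorem app_lt (m : M) (v : V) : AffData.V.lt (m.app v) :=
  ⟨Nat.mod_lt _ (by norm_num), Nat.mod_lt _ (by norm_num), Nat.mod_lt _ (by norm_num)⟩

theorem V.ext_of_lt {v w : V} (hv : AffData.V.lt v) (hw : AffData.V.lt w)
    (h : v.x % 4 = w.x % 4 ∧ v.y % 4 = w.y % 4 ∧ v.z % 4 = w.z % 4) : v = w := by
  obtain ⟨x, y, z⟩ := v
  obtain ⟨x', y', z'⟩ := w
  obtain ⟨h1, h2, h3⟩ := hv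
  obtain ⟨h4, h5, h6⟩ := hw
  obtain ⟨h7, h8, h9⟩ := h
  dsimp only at h1 h2 h3 h4 h5 h6 h7 h8 h9
  rw [Nat.mod_eq_of_lt h1, Nat.mod_eq_of_lt h4] at h7
  rw [Nat.mod_eq_of_lt h2, Nat.mod_eq_of_lt h5] at h8
  rw [Nat.mod_eq_of_lt h3, Nat.mod_eq_of_lt h6] at h9
  rw [h7, h8, h9]

/-- equality of reduced vectors -/
theorem Inj.eq_of_lt (h : Ab i a b) (hj : Inj i a b) {v w : V} (hv : AffData.V.lt v) (hw : AffData.V.lt w)
    (hvw : e i a b v = e i a b w) : v = w := V.ext_of_lt hv hw (hj.eq h hvw)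

/-- reduced matrices -/
structure MLt (m : M) : Prop where
  a : AffData.V.lt m.a
  b : AffData.V.lt m.b
  c : AffData.V.lt m.c

theorem mul_lt (m n : M) : MLt (m.mul n) := ⟨app_lt _ _, app_lt _ _, app_lt _ _⟩

theorem Act.unique (h : Ab i a b) (hj : Inj i a b) {n : G} {m m' : M} (hm : MLt m) (hm' : MLt m')
    (h1 : Act i a b n m) (h2 : Act i a b n m') : m = m' := by
  obtain ⟨c1, c2, c3⟩ := m
  obtain ⟨d1, d2, d3⟩ := m'
  have e1 : c1 = d1 := hj.eq_of_lt h hm.a hm'.a (h1.hi.symm.trans h2.hi)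
  have e2 : c2 = d2 := hj.eq_of_lt h hm.b hm'.b (h1.ha.symm.trans h2.ha)
  have e3 : c3 = d3 := hj.eq_of_lt h hm.c hm'.c (h1.hb.symm.trans h2.hb)
  rw [e1, e2, e3]

theorem exists_act (h : Ab i a b) {n : G} (hn : ∀ x ∈ sub h, n * x * n⁻¹ ∈ sub h) :
    ∃ m, MLt m ∧ Act i a b n m := by
  obtain ⟨v1, h1⟩ := hn i (i_mem h)
  obtain ⟨v2, h2⟩ := hn a (a_mem h)
  obtain ⟨v3, h3⟩ := hn b (b_mem h)
  exact ⟨⟨red v1, red v2, red v3⟩, ⟨red_lt _, red_lt _, red_lt _⟩,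
    ⟨by rw [h1, e_red h], by rw [h2, e_red h], by rw [h3, e_red h]⟩⟩

theorem Act.norm (h : Ab i a b) {n : G} {m : M} (hn : Act i a b n m) : ∀ x ∈ sub h, n * x * n⁻¹ ∈ sub h := by
  rintro _ ⟨v, rfl⟩
  exact ⟨_, hn.app h v⟩

theorem act_ev (h : Ab i a b) {g : ℕ → G} {L : ℕ → Af} (w : List ℕ)
    (hw : ∀ l ∈ w, Act i a b (g l) (L l).m) : Act i a b (w.map g).prod (evA L w).m := by
  induction w with
  | nil => exact Act.one
  | cons l w ih =>
    rw [List.map_cons, List.prod_cons, evA_cons]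
    exact (hw l List.mem_cons_self).mul h (ih fun y hy => hw y (List.mem_cons_of_mem _ hy))

/-- inverse representation -/
theorem Rep.inv (h : Ab i a b) {K : Subgroup G} {g : G} {p q : Af} (hg : Rep i a b K g p)
    (hpq : Af.mul p q = Af.one) : Rep i a b K g⁻¹ q := by
  obtain ⟨k, hk, rfl, hp⟩ := hg
  have hm : M.mul p.m q.m = M.one := congrArg Af.m hpq
  have hv : V.add p.v (p.m.app q.v) = ⟨0, 0, 0⟩ := congrArg Af.v hpq
  have h1 : e i a b p.v * (k * e i a b q.v * k⁻¹) = 1 := by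
    rw [hp.app h, ← e_add h, hv, e_zero]
  refine ⟨k⁻¹, K.inv_mem hk, ?_, ?_⟩
  · have h2 : e i a b p.v = (k * e i a b q.v * k⁻¹)⁻¹ := eq_inv_of_mul_eq_one_left h1
    rw [h2]; group
  · have ha : p.m.app q.m.a = ⟨1, 0, 0⟩ := congrArg M.a hm
    have hb : p.m.app q.m.b = ⟨0, 1, 0⟩ := congrArg M.b hm
    have hc : p.m.app q.m.c = ⟨0, 0, 1⟩ := congrArg M.c hm
    refine ⟨?_, ?_, ?_⟩
    · have := hp.app h q.m.a
      rw [ha, e100] at this
      have h3 : k⁻¹ * (k * e i a b q.m.a * k⁻¹) * k⁻¹⁻¹ = e i a b q.m.a := by group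
      rwa [this] at h3
    · have := hp.app h q.m.b
      rw [hb, e010] at this
      have h3 : k⁻¹ * (k * e i a b q.m.b * k⁻¹) * k⁻¹⁻¹ = e i a b q.m.b := by group
      rwa [this] at h3
    · have := hp.app h q.m.c
      rw [hc, e001] at this
      have h3 : k⁻¹ * (k * e i a b q.m.c * k⁻¹) * k⁻¹⁻¹ = e i a b q.m.c := by group
      rwa [this] at h3

theorem Ab.map {H : Type*} [Group H] (φ : G →* H) (h : Ab i a b) : Ab (φ i) (φ a) (φ b) where
  ia := by rw [← map_mul, h.ia, map_mul]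
  ib := by rw [← map_mul, h.ib, map_mul]
  ab := by rw [← map_mul, h.ab, map_mul]
  i4 := by rw [← map_pow, h.i4, map_one]
  a4 := by rw [← map_pow, h.a4, map_one]
  b4 := by rw [← map_pow, h.b4, map_one]

theorem map_e {H : Type*} [Group H] (φ : G →* H) (v : V) : φ (e i a b v) = e (φ i) (φ a) (φ b) v := by
  simp [e]

theorem Act.map {H : Type*} [Group H] (φ : G →* H) {n : G} {m : M} (h : Act i a b n m) :
    Act (φ i) (φ a) (φ b) (φ n) m where
  hi := by rw [← map_e, ← h.hi]; simp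
  ha := by rw [← map_e, ← h.ha]; simp
  hb := by rw [← map_e, ← h.hb]; simp

theorem Inj.map {H : Type*} [Group H] (φ : G →* H) (hφ : Function.Injective φ) (h : Inj i a b) :
    Inj (φ i) (φ a) (φ b) := by
  intro v hv
  rw [← map_e] at hv
  exact h v (hφ (by rw [hv, map_one]))

end group

end Cfsg.Agent.HSType.AffLemmas
end

-- part: HSType/NormA
section
set_option autoImplicit false

/-!
Recognition of the Higman–Sims group, local part: an element normalising `A = φ(4 × 4 × 4)` that moves `a²` to `z`,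
and an element acting on `A` as the matrix of `r`.
-/

namespace Cfsg.Agent.HSType.NormA

open Cfsg.Agent.HSType.Letters Cfsg.Agent.HSType.Affine Cfsg.Agent.HSType.MFacts
  Cfsg.Agent.HSType.AffData Cfsg.Agent.HSType.AffLemmas Equiv

noncomputable section

/-- the letters of `C0` -/
def cK : ↥C0 := ⟨pk, gl_mem_C0 0 (by norm_num)⟩
def cT : ↥C0 := ⟨pt, gl_mem_C0 2 (by norm_num)⟩
def cI : ↥C0 := ⟨pi, gl_mem_C0 3 (by norm_num)⟩
def cA : ↥C0 := ⟨pa, gl_mem_C0 5 (by norm_num)⟩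
def cB : ↥C0 := ⟨pb, gl_mem_C0 7 (by norm_num)⟩
def cH : ↥C0 := ⟨ph, gl_mem_C0 9 (by norm_num)⟩

theorem abC : Ab cI cA cB where
  ia := Subtype.ext ab0.ia
  ib := Subtype.ext ab0.ib
  ab := Subtype.ext ab0.ab
  i4 := Subtype.ext ab0.i4
  a4 := Subtype.ext ab0.a4
  b4 := Subtype.ext ab0.b4

theorem coe_e (v : V) : ((e cI cA cB v : ↥C0) : Perm (Fin 100)) = e pi pa pb v := map_e C0.subtype v

theorem injC : Inj cI cA cB := fun v hv => e_inj (v := v) (by rw [← coe_e, hv]; rfl)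

theorem actKC : Act cI cA cB cK mK where
  hi := Subtype.ext (by rw [coe_e, ← actK.hi]; rfl)
  ha := Subtype.ext (by rw [coe_e, ← actK.ha]; rfl)
  hb := Subtype.ext (by rw [coe_e, ← actK.hb]; rfl)

theorem actTC : Act cI cA cB cT mT where
  hi := Subtype.ext (by rw [coe_e, ← actT.hi]; rfl)
  ha := Subtype.ext (by rw [coe_e, ← actT.ha]; rfl)
  hb := Subtype.ext (by rw [coe_e, ← actT.hb]; rfl)

/-- letters `k` and `t` -/
def ktC (n : ℕ) : ↥C0 := if n = 0 then cK else cT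

/-- the n-th element of `⟨k, t⟩` -/
def pwC (n : ℕ) : ↥C0 := ((pw n).map ktC).prod

theorem pw_letters : ∀ n < 24, ∀ l ∈ pw n, l = 0 ∨ l = 2 := by decide

theorem coe_pwC {n : ℕ} (hn : n < 24) : ((pwC n : ↥C0) : Perm (Fin 100)) = evw (pw n) := by
  have key : ∀ w : List ℕ, (∀ l ∈ w, l = 0 ∨ l = 2) → (((w.map ktC).prod : ↥C0) : Perm (Fin 100)) = evw w := by
    intro w
    induction w with
    | nil => intro _; rfl
    | cons l w ih =>
      intro hw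
      rw [List.map_cons, List.prod_cons, Subgroup.coe_mul, ih fun y hy => hw y (List.mem_cons_of_mem _ hy),
        evw, evw, Cfsg.Agent.SporadicRecognition.CosetCert.ev_cons]
      congr 1
      rcases hw l List.mem_cons_self with rfl | rfl
      · rfl
      · rfl
  exact key _ (pw_letters n hn)

theorem act_pwC {n : ℕ} (hn : n < 24) : Act cI cA cB (pwC n) (pm n) := by
  refine act_ev abC (pw n) fun l hl => ?_
  rcases pw_letters n hn l hl with rfl | rfl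
  · exact actKC
  · exact actTC

/-- `A0 = ⟨i, a, b⟩` in the model -/
def A0 : Subgroup (Perm (Fin 100)) := Subgroup.closure {pi, pa, pb}

theorem A0_eq : A0 = sub ab0 := (sub_eq_closure ab0).symm

theorem mem_A0 {x : Perm (Fin 100)} : x ∈ A0 ↔ ∃ v, x = e pi pa pb v := by rw [A0_eq]; exact Iff.rfl

/-- the facts on `C0` used below -/
structure CF : Prop where
  conj : ∀ M : Subgroup (Perm (Fin 100)), M ≤ C0 → Nat.card M = 64 → (∀ x ∈ M, ∀ y ∈ M, x * y = y * x) →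
    ∃ c ∈ C0, ∀ x ∈ M, c * x * c⁻¹ ∈ A0
  norm : ∀ c ∈ C0, (∀ x ∈ A0, c * x * c⁻¹ ∈ A0) → c ∈ B0
  cen : ∀ c ∈ C0, c * (pi * pi) = (pi * pi) * c → c * (pa * pa) = (pa * pa) * c →
    c * (pb * pb) = (pb * pb) * c → c ∈ A0

/-- `z0` is central in `C0`. -/
theorem comm_z0 {c : Perm (Fin 100)} (hc : c ∈ C0) : c * (pi * pi) = (pi * pi) * c := by
  have h4 : pi⁻¹ * pi⁻¹ = pi * pi := by
    have h := ab0.i4
    rw [← mul_inv_rev, inv_eq_iff_mul_eq_one]
    simpa [pow_succ, mul_assoc] using h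
  have h1 : c * (pi * pi) * c⁻¹ = (c * pi * c⁻¹) * (c * pi * c⁻¹) := by group
  have h2 : c * (pi * pi) * c⁻¹ = pi * pi := by
    rw [h1]
    rcases parity hc with h | h
    · rw [h]
    · rw [h, h4]
  exact mul_inv_eq_iff_eq_mul.1 h2

section card

variable {G : Type*} [Group G] {i a b : G}

theorem card_sub (h : Ab i a b) (hj : Inj i a b) : Nat.card (sub h) = 64 := by
  let f : Fin 4 × Fin 4 × Fin 4 → G := fun p => e i a b ⟨p.1, p.2.1, p.2.2⟩
  have hf : Function.Injective f := by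
    rintro ⟨x, y, z⟩ ⟨x', y', z'⟩ hxy
    have h1 := hj.eq_of_lt h (v := ⟨x, y, z⟩) (w := ⟨x', y', z'⟩) ⟨x.2, y.2, z.2⟩ ⟨x'.2, y'.2, z'.2⟩ hxy
    have h2 : (x : ℕ) = x' := congrArg V.x h1
    have h3 : (y : ℕ) = y' := congrArg V.y h1
    have h4 : (z : ℕ) = z' := congrArg V.z h1
    rw [Fin.ext h2, Fin.ext h3, Fin.ext h4]
  have h1 : Nat.card (sub h) = Nat.card (Set.range f) := by
    refine Nat.card_congr (Equiv.setCongr ?_)
    ext x
    constructor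
    · rintro ⟨v, rfl⟩
      refine ⟨(⟨v.x % 4, Nat.mod_lt _ (by norm_num)⟩, ⟨v.y % 4, Nat.mod_lt _ (by norm_num)⟩,
        ⟨v.z % 4, Nat.mod_lt _ (by norm_num)⟩), ?_⟩
      exact e_red h v
    · rintro ⟨p, rfl⟩
      exact ⟨_, rfl⟩
  rw [h1, Nat.card_congr (Equiv.ofInjective f hf).symm]
  simp

end card

variable {G : Type*} [Group G]

/-- `φ` is an embedding of `C0` onto the centraliser of `z` -/
structure Ctx (z : G) (φ : ↥C0 →* G) : Prop where
  inj : Function.Injective φ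
  hz : φ (cI * cI) = z
  cen : ∀ g : G, g * z = z * g → ∃ c, φ c = g

variable {z : G} {φ : ↥C0 →* G}

theorem abφ (φ : ↥C0 →* G) : Ab (φ cI) (φ cA) (φ cB) := Ab.map φ abC

theorem Ctx.injφ (h : Ctx z φ) : Inj (φ cI) (φ cA) (φ cB) := Inj.map φ h.inj injC

theorem Ctx.z_eq (h : Ctx z φ) : z = e (φ cI) (φ cA) (φ cB) ⟨2, 0, 0⟩ := by
  rw [← h.hz, map_mul]; simp [e, pow_two]

theorem mem_sub_of_A0 {c : ↥C0} (hc : (c : Perm (Fin 100)) ∈ A0) : φ c ∈ sub (abφ φ) := by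
  obtain ⟨v, hv⟩ := mem_A0.1 hc
  have h1 : c = e cI cA cB v := Subtype.ext (by rw [coe_e, hv])
  exact ⟨v, by rw [h1, map_e]⟩

theorem Ctx.comm_z (h : Ctx z φ) (c : ↥C0) : φ c * z = z * φ c := by
  rw [← h.hz, ← map_mul, ← map_mul]
  congr 1
  exact Subtype.ext (comm_z0 c.2)

theorem exists_m [Finite G] (CFh : CF) (h : Ctx z φ) (hx : IsConj (φ (cA * cA)) z) :
    ∃ m : G, (∀ x ∈ sub (abφ φ), m * x * m⁻¹ ∈ sub (abφ φ)) ∧ m * φ (cA * cA) * m⁻¹ = z := by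
  obtain ⟨g, hg⟩ := isConj_iff.1 hx
  have haa : φ (cA * cA) ∈ sub (abφ φ) := by
    rw [map_mul]; exact Subgroup.mul_mem _ (a_mem _) (a_mem _)
  have h1 : ∀ x ∈ sub (abφ φ), ∃ c, φ c = g * x * g⁻¹ := by
    intro x hx
    refine h.cen _ ?_
    rw [← hg]
    have := sub_comm (abφ φ) hx haa
    calc g * x * g⁻¹ * (g * φ (cA * cA) * g⁻¹) = g * (x * φ (cA * cA)) * g⁻¹ := by group
      _ = g * (φ (cA * cA) * x) * g⁻¹ := by rw [this]
      _ = g * φ (cA * cA) * g⁻¹ * (g * x * g⁻¹) := by group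
  let H : Subgroup G := (sub (abφ φ)).map (MulAut.conj g).toMonoidHom
  have hH : Nat.card H = 64 := by
    rw [← card_sub (abφ φ) h.injφ]
    exact Nat.card_congr ((sub (abφ φ)).equivMapOfInjective _ (MulAut.conj g).injective).symm.toEquiv
  have hHr : H ≤ φ.range := by
    rintro _ ⟨x, hx, rfl⟩
    obtain ⟨c, hc⟩ := h1 x hx
    exact ⟨c, hc⟩
  let M : Subgroup (Perm (Fin 100)) := (H.comap φ).map C0.subtype
  have hM1 : M ≤ C0 := by
    rintro _ ⟨c, -, rfl⟩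
    exact c.2
  have hM2 : Nat.card M = 64 := by
    rw [← hH, ← Nat.card_congr ((H.comap φ).equivMapOfInjective _ C0.subtype_injective).toEquiv]
    have h2 : (H.comap φ).map φ = H := Subgroup.map_comap_eq_self hHr
    rw [← Nat.card_congr ((H.comap φ).equivMapOfInjective φ h.inj).symm.toEquiv, h2]
  have hM3 : ∀ x ∈ M, ∀ y ∈ M, x * y = y * x := by
    rintro _ ⟨c, ⟨x, hx, hcx⟩, rfl⟩ _ ⟨d, ⟨y, hy, hdy⟩, rfl⟩
    have h3 : c * d = d * c := by
      apply h.inj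
      rw [map_mul, map_mul, ← hcx, ← hdy, ← map_mul, ← map_mul, sub_comm (abφ φ) hx hy]
    exact congrArg C0.subtype h3
  obtain ⟨c, hc, hcM⟩ := CFh.conj M hM1 hM2 hM3
  refine ⟨φ ⟨c, hc⟩ * g, ?_, ?_⟩
  · intro x hx
    obtain ⟨d, hd⟩ := h1 x hx
    have h4 : (d : Perm (Fin 100)) ∈ M := ⟨d, ⟨x, hx, hd.symm⟩, rfl⟩
    have h5 := hcM _ h4
    have h6 : φ ⟨c, hc⟩ * g * x * (φ ⟨c, hc⟩ * g)⁻¹ = φ (⟨c, hc⟩ * d * ⟨c, hc⟩⁻¹) := by
      rw [map_mul, map_mul, map_inv, hd]; group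
    rw [h6]
    exact mem_sub_of_A0 h5
  · have h6 : φ ⟨c, hc⟩ * g * φ (cA * cA) * (φ ⟨c, hc⟩ * g)⁻¹ =
        φ ⟨c, hc⟩ * (g * φ (cA * cA) * g⁻¹) * (φ ⟨c, hc⟩)⁻¹ := by group
    rw [h6, hg, h.comm_z, mul_inv_cancel_right]

theorem exists_bx (n : ℕ) : ∃ d, bx d 1 = n % 2 := by
  rcases Nat.mod_two_eq_zero_or_one n with h | h
  · exact ⟨false, h.symm⟩
  · exact ⟨true, h.symm⟩

/-- the entries of a matrix modulo 2 determine its action on even vectors -/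
theorem app_even {m n : M} (h1 : m.a.x % 2 = n.a.x % 2) (h2 : m.a.y % 2 = n.a.y % 2) (h3 : m.a.z % 2 = n.a.z % 2)
    (h4 : m.b.x % 2 = n.b.x % 2) (h5 : m.b.y % 2 = n.b.y % 2) (h6 : m.b.z % 2 = n.b.z % 2)
    (h7 : m.c.x % 2 = n.c.x % 2) (h8 : m.c.y % 2 = n.c.y % 2) (h9 : m.c.z % 2 = n.c.z % 2) (α β γ : Bool) :
    m.app ⟨bx α 2, bx β 2, bx γ 2⟩ = n.app ⟨bx α 2, bx β 2, bx γ 2⟩ := by
  have key : ∀ (p q r p' q' r' : ℕ), p % 2 = p' % 2 → q % 2 = q' % 2 → r % 2 = r' % 2 →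
      (bx α 2 * p + bx β 2 * q + bx γ 2 * r) % 4 = (bx α 2 * p' + bx β 2 * q' + bx γ 2 * r') % 4 := by
    intro p q r p' q' r' hp hq hr
    cases α <;> cases β <;> cases γ <;> simp only [bx, cond_true, cond_false] <;> omega
  obtain ⟨⟨a1, a2, a3⟩, ⟨b1, b2, b3⟩, ⟨c1, c2, c3⟩⟩ := m
  obtain ⟨⟨a1', a2', a3'⟩, ⟨b1', b2', b3'⟩, ⟨c1', c2', c3'⟩⟩ := n
  have e1 := key a1 b1 c1 a1' b1' c1' h1 h4 h7
  have e2 := key a2 b2 c2 a2' b2' c2' h2 h5 h8
  have e3 := key a3 b3 c3 a3' b3' c3' h3 h6 h9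
  exact congrArg₂ (fun x (p : ℕ × ℕ) => (⟨x, p.1, p.2⟩ : V)) e1 (congrArg₂ Prod.mk e2 e3)

/-- an element acting on involutions like `r` -/
theorem exists_rho [Finite G] (CFh : CF) (h : Ctx z φ) (hx : IsConj (φ (cA * cA)) z) :
    ∃ g : G, (∀ x ∈ sub (abφ φ), g * x * g⁻¹ ∈ sub (abφ φ)) ∧
      g * e (φ cI) (φ cA) (φ cB) ⟨2, 0, 0⟩ * g⁻¹ = e (φ cI) (φ cA) (φ cB) ⟨0, 2, 0⟩ ∧
      g * e (φ cI) (φ cA) (φ cB) ⟨0, 2, 0⟩ * g⁻¹ = e (φ cI) (φ cA) (φ cB) ⟨0, 0, 2⟩ ∧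
      g * e (φ cI) (φ cA) (φ cB) ⟨0, 0, 2⟩ * g⁻¹ = e (φ cI) (φ cA) (φ cB) ⟨2, 2, 0⟩ := by
  obtain ⟨m, hm, hmz⟩ := exists_m CFh h hx
  obtain ⟨mm, hlt, hact⟩ := exists_act (abφ φ) hm
  have hj := h.injφ
  have hab := abφ φ
  -- the second column
  have hb1 : e (φ cI) (φ cA) (φ cB) (mm.app ⟨0, 2, 0⟩) = e (φ cI) (φ cA) (φ cB) ⟨2, 0, 0⟩ := by
    rw [← hact.app hab, ← h.z_eq, ← hmz, map_mul]
    simp [e, pow_two]
  obtain ⟨hbx, hby, hbz⟩ := hj.eq hab hb1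
  change (0 * mm.a.x + 2 * mm.b.x + 0 * mm.c.x) % 4 % 4 = 2 % 4 at hbx
  change (0 * mm.a.y + 2 * mm.b.y + 0 * mm.c.y) % 4 % 4 = 0 % 4 at hby
  change (0 * mm.a.z + 2 * mm.b.z + 0 * mm.c.z) % 4 % 4 = 0 % 4 at hbz
  obtain ⟨d1, hd1⟩ := exists_bx mm.a.x
  obtain ⟨d2, hd2⟩ := exists_bx mm.a.y
  obtain ⟨d3, hd3⟩ := exists_bx mm.a.z
  obtain ⟨d4, hd4⟩ := exists_bx mm.c.x
  obtain ⟨d5, hd5⟩ := exists_bx mm.c.y
  obtain ⟨d6, hd6⟩ := exists_bx mm.c.z
  have hev : ∀ α β γ : Bool, mm.app ⟨bx α 2, bx β 2, bx γ 2⟩ =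
      (m2 d1 d2 d3 d4 d5 d6).app ⟨bx α 2, bx β 2, bx γ 2⟩ := by
    intro α β γ
    have hh : ∀ n : ℕ, n % 2 % 2 = n % 2 := fun n => Nat.mod_mod _ _
    refine app_even ?_ ?_ ?_ ?_ ?_ ?_ ?_ ?_ ?_ α β γ
    · change _ = bx d1 1 % 2; rw [hd1, hh]
    · change _ = bx d2 1 % 2; rw [hd2, hh]
    · change _ = bx d3 1 % 2; rw [hd3, hh]
    · change _ = 1 % 2; omega
    · change _ = 0 % 2; omega
    · change _ = 0 % 2; omega
    · change _ = bx d4 1 % 2; rw [hd4, hh]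
    · change _ = bx d5 1 % 2; rw [hd5, hh]
    · change _ = bx d6 1 % 2; rw [hd6, hh]
  have hsing : sing (m2 d1 d2 d3 d4 d5 d6) = false := by
    rw [sing, Bool.not_eq_false']
    have key : ∀ α β γ : Bool, (cond (V.beq ((m2 d1 d2 d3 d4 d5 d6).app ⟨bx α 2, bx β 2, bx γ 2⟩) ⟨0, 0, 0⟩)
        (Bool.not (Bool.or α (Bool.or β γ))) true) = true := by
      intro α β γ
      by_cases hb : V.beq ((m2 d1 d2 d3 d4 d5 d6).app ⟨bx α 2, bx β 2, bx γ 2⟩) ⟨0, 0, 0⟩ = true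
      · rw [hb, cond_true]
        have h1 := V.eq_of_beq hb
        rw [← hev] at h1
        have h2 := hact.app hab ⟨bx α 2, bx β 2, bx γ 2⟩
        rw [h1, e_zero, mul_inv_eq_one, mul_eq_left] at h2
        have h3 := hj _ h2
        cases α <;> cases β <;> cases γ <;> first | rfl | (exfalso; simp [bx] at h3)
      · rw [Bool.not_eq_true] at hb
        rw [hb, cond_false]
    have mk : ∀ p : Bool → Bool, (∀ b, p b = true) → allBool p = true := by
      intro p hp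
      rw [allBool, Affine.band_iff]; exact ⟨hp _, hp _⟩
    exact mk _ fun α => mk _ fun β => mk _ fun γ => key α β γ
  obtain ⟨n, hn, hgood⟩ := exists_good d1 d2 d3 d4 d5 d6 hsing
  rw [good, Affine.band_iff] at hgood
  have hg1 := V.eq_of_beq hgood.1
  have hg2 := V.eq_of_beq hgood.2
  have hv1 := hev false false true
  have hv2 := hev true true false
  simp only [bx, cond_true, cond_false] at hv1 hv2
  rw [← hv1] at hg1
  rw [← hv2] at hg2
  have hpact : Act (φ cI) (φ cA) (φ cB) (φ (pwC n)) (pm n) := Act.map φ (act_pwC hn)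
  refine ⟨m⁻¹ * φ (pwC n), ?_, ?_, ?_, ?_⟩
  · intro x hx
    have h1 : φ (pwC n) * x * (φ (pwC n))⁻¹ ∈ sub (abφ φ) := Act.norm hab hpact x hx
    have h2 : ∀ y ∈ sub (abφ φ), m⁻¹ * y * m ∈ sub (abφ φ) := by
      have h3 : m ∈ Subgroup.normalizer (sub (abφ φ) : Set G) :=
        Subgroup.mem_normalizer_fintype (fun y hy => hm y hy)
      intro y hy
      exact (Subgroup.mem_normalizer_iff''.1 h3 y).1 hy
    have h4 : m⁻¹ * φ (pwC n) * x * (m⁻¹ * φ (pwC n))⁻¹ = m⁻¹ * (φ (pwC n) * x * (φ (pwC n))⁻¹) * m := by group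
    rw [h4]
    exact h2 _ h1
  · have h4 : m⁻¹ * φ (pwC n) * e (φ cI) (φ cA) (φ cB) ⟨2, 0, 0⟩ * (m⁻¹ * φ (pwC n))⁻¹ =
        m⁻¹ * (φ (pwC n) * z * (φ (pwC n))⁻¹) * m := by rw [h.z_eq]; group
    rw [h4, h.comm_z, mul_inv_cancel_right]
    have h5 : z = m * e (φ cI) (φ cA) (φ cB) ⟨0, 2, 0⟩ * m⁻¹ := by
      rw [hact.app hab, hb1, h.z_eq]
    nth_rewrite 1 [h5]; group
  · have h4 : m⁻¹ * φ (pwC n) * e (φ cI) (φ cA) (φ cB) ⟨0, 2, 0⟩ * (m⁻¹ * φ (pwC n))⁻¹ =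
        m⁻¹ * (φ (pwC n) * e (φ cI) (φ cA) (φ cB) ⟨0, 2, 0⟩ * (φ (pwC n))⁻¹) * m := by group
    rw [h4, hpact.app hab, hg1, ← hact.app hab]; group
  · have h4 : m⁻¹ * φ (pwC n) * e (φ cI) (φ cA) (φ cB) ⟨0, 0, 2⟩ * (m⁻¹ * φ (pwC n))⁻¹ =
        m⁻¹ * (φ (pwC n) * e (φ cI) (φ cA) (φ cB) ⟨0, 0, 2⟩ * (φ (pwC n))⁻¹) * m := by group
    rw [h4, hpact.app hab, hg2, ← hact.app hab]; group

end

end Cfsg.Agent.HSType.NormA
end
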